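import Mathlib

/-!
Divided powers: rigidity by the `p`-th map, torsion-free rings, extension from a principal ideal.
-/

namespace Groth.Agent.DPowLib

open Nat Finset

universe u v

theorem exists_choose_or_pow {p n : ℕ} (hp : p.Prime) (hn : 1 < n) :
    (∃ k, 0 < k ∧ k < n ∧ ¬ p ∣ n.choose k) ∨ ∃ v, n = p * p ^ v := by
  haveI := Fact.mk hp
  obtain ⟨v, m, hm, rfl⟩ := Nat.exists_eq_pow_mul_and_not_dvd (n := n) (by omega) p hp.ne_one
  by_cases h1 : m = 1
  · subst h1
    rcases v with _ | v
    · simp at hn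
    · exact Or.inr ⟨v, by ring⟩
  · refine Or.inl ⟨p ^ v, pow_pos hp.pos v, ?_, ?_⟩
    · have : 1 < m := by
        rcases m with _ | _ | m
        · simp at hn
        · simp at h1
        · omega
      exact lt_mul_of_one_lt_right (pow_pos hp.pos v) this
    · clear hn h1
      induction v with
      | zero => simpa using hm
      | succ v ih =>
        have h : (p ^ (v + 1) * m).choose (p ^ (v + 1)) ≡ (p ^ v * m).choose (p ^ v) [MOD p] := by
          have h := Choose.choose_modEq_choose_mod_mul_choose_div_nat (p := p) (n := p ^ (v + 1) * m) (k := p ^ (v + 1))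
          have e1 : p ^ (v + 1) * m = p * (p ^ v * m) := by ring
          have e2 : p ^ (v + 1) = p * p ^ v := by ring
          rw [e1, e2] at h ⊢
          simpa [Nat.mul_div_cancel_left _ hp.pos] using h
        exact fun hd => ih ((Nat.ModEq.dvd_iff h dvd_rfl).1 hd)

theorem choose_pow_pred {p : ℕ} (hp : p.Prime) (v a : ℕ) :
    (a * p ^ v + p ^ v - 1).choose (p ^ v - 1) ≡ 1 [MOD p] := by
  haveI := Fact.mk hp
  induction v with
  | zero => simp [Nat.ModEq.refl]
  | succ v ih =>
    have h := Choose.choose_modEq_choose_mod_mul_choose_div_nat (p := p) (n := a * p ^ (v + 1) + p ^ (v + 1) - 1)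
      (k := p ^ (v + 1) - 1)
    obtain ⟨q, hq⟩ : ∃ q, p = q + 1 := ⟨p - 1, by have := hp.pos; omega⟩
    obtain ⟨r, hr⟩ : ∃ r, p ^ v = r + 1 := ⟨p ^ v - 1, by have := pow_pos hp.pos v; omega⟩
    have e1 : p ^ (v + 1) - 1 = q + p * (p ^ v - 1) := by
      rw [pow_succ, hr, hq, Nat.add_sub_cancel]; ring_nf; omega
    have e2 : a * p ^ (v + 1) + p ^ (v + 1) - 1 = q + p * (a * p ^ v + p ^ v - 1) := by
      rw [pow_succ, hr, hq, ← Nat.add_assoc (a * (r + 1)) r 1, Nat.add_sub_cancel]; ring_nf; omega
    rw [e1, e2, Nat.add_mul_mod_self_left, Nat.add_mul_mod_self_left, Nat.mod_eq_of_lt (by omega : q < p),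
      Nat.choose_self, Nat.add_mul_div_left _ _ hp.pos, Nat.add_mul_div_left _ _ hp.pos,
      Nat.div_eq_of_lt (by omega : q < p), Nat.zero_add, Nat.zero_add, one_mul] at h
    rw [e1, e2]
    exact h.trans ih

theorem uniformBell_prime_pow {p : ℕ} (hp : p.Prime) (v : ℕ) (m : ℕ) : ¬ p ∣ Nat.uniformBell m (p ^ v) := by
  rw [Nat.uniformBell_eq, (Nat.prime_iff.1 hp).dvd_finsetProd_iff]
  rintro ⟨a, -, ha⟩
  have := (Nat.ModEq.dvd_iff (choose_pow_pred hp v a) dvd_rfl).1 ha
  exact hp.not_dvd_one this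

theorem dpow_ext_prime {A : Type u} [CommRing A] (p : ℕ) (hp : p.Prime)
    (hA : ∀ n : ℕ, ¬ p ∣ n → IsUnit (n : A)) {I : Ideal A} (γ γ' : DividedPowers I)
    (h : ∀ x ∈ I, γ.dpow p x = γ'.dpow p x) : γ = γ' := by
  refine DividedPowers.ext γ γ' fun n x hx => ?_
  induction n using Nat.strong_induction_on generalizing x with
  | _ n ih =>
    rcases Nat.lt_or_ge 1 n with hn | hn
    · rcases exists_choose_or_pow hp hn with ⟨k, hk0, hkn, hk⟩ | ⟨v, rfl⟩
      · refine (hA _ hk).mul_left_cancel ?_
        have e := Nat.add_sub_cancel' hkn.le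
        have h1 := γ.mul_dpow (m := k) (n := n - k) hx
        have h2 := γ'.mul_dpow (m := k) (n := n - k) hx
        rw [e] at h1 h2
        rw [← h1, ← h2, ih k hkn x hx, ih (n - k) (by omega) x hx]
      · refine (hA _ (uniformBell_prime_pow hp v p)).mul_left_cancel ?_
        have hv : p ^ v ≠ 0 := pow_ne_zero _ hp.ne_zero
        have hlt : p ^ v < p * p ^ v := lt_mul_left (pow_pos hp.pos v) hp.one_lt
        rw [← γ.dpow_comp hv hx, ← γ'.dpow_comp hv hx, h _ (γ.dpow_mem hv hx), ih _ hlt x hx]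
    · interval_cases n
      · rw [γ.dpow_zero hx, γ'.dpow_zero hx]
      · rw [γ.dpow_one hx, γ'.dpow_one hx]

section TorsionFree

variable {A : Type u} [CommRing A] [IsAddTorsionFree A]

theorem factorial_cancel {n : ℕ} {a b : A} (h : (n ! : A) * a = (n ! : A) * b) : a = b := by
  rw [← nsmul_eq_mul, ← nsmul_eq_mul] at h
  exact nsmul_right_injective n.factorial_ne_zero h

theorem subsingleton (I : Ideal A) : Subsingleton (DividedPowers I) :=
  ⟨fun γ γ' => DividedPowers.ext γ γ' fun n x hx =>
    factorial_cancel (by rw [γ.factorial_mul_dpow_eq_pow hx, γ'.factorial_mul_dpow_eq_pow hx])⟩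

theorem exists_dividedPowers (I : Ideal A) (S : Set A) (hS : Ideal.span S = I)
    (h : ∀ x ∈ S, ∀ n : ℕ, 1 ≤ n → x ^ n ∈ Ideal.span {(n ! : A)} * I) : Nonempty (DividedPowers I) := by
  classical
  let good : A → Prop := fun x => ∀ n : ℕ, 1 ≤ n → ∃ y ∈ I, (n ! : A) * y = x ^ n
  have hgood : ∀ x ∈ I, good x := by
    intro x hx
    rw [← hS] at hx
    induction hx using Submodule.span_induction with
    | mem x hx =>
      intro n hn
      obtain ⟨y, hy, e⟩ := Ideal.mem_span_singleton_mul.1 (h x hx n hn)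
      exact ⟨y, hy, e⟩
    | zero => exact fun n hn => ⟨0, I.zero_mem, by rw [mul_zero, zero_pow (by omega)]⟩
    | smul a x _ ih =>
      intro n hn
      obtain ⟨y, hy, e⟩ := ih n hn
      exact ⟨a ^ n * y, I.mul_mem_left _ hy, by rw [smul_eq_mul, mul_pow, ← e]; ring⟩
    | add x y hx hy ihx ihy =>
      intro n hn
      choose f hf hf' using ihx
      choose g hg hg' using ihy
      let F : ℕ → A := fun k => if hk : 1 ≤ k then f k hk else 1
      let G : ℕ → A := fun k => if hk : 1 ≤ k then g k hk else 1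
      have hF : ∀ k, (k ! : A) * F k = x ^ k := fun k => by
        rcases k with _ | k
        · simp [F]
        · simpa [F] using hf' (k + 1) (by omega)
      have hG : ∀ k, (k ! : A) * G k = y ^ k := fun k => by
        rcases k with _ | k
        · simp [G]
        · simpa [G] using hg' (k + 1) (by omega)
      refine ⟨∑ k ∈ range (n + 1), F k * G (n - k), I.sum_mem fun k hk => ?_, ?_⟩
      · by_cases hk0 : 1 ≤ k
        · exact I.mul_mem_right _ (by simp only [F, dif_pos hk0]; exact hf k hk0)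
        · exact I.mul_mem_left _ (by simp only [G, dif_pos (show 1 ≤ n - k by omega)]; exact hg _ _)
      · rw [add_pow, mul_sum]
        refine sum_congr rfl fun k hk => ?_
        have hkn : k ≤ n := Nat.lt_succ_iff.1 (mem_range.1 hk)
        rw [← Nat.choose_mul_factorial_mul_factorial hkn, ← hF, ← hG]
        push_cast
        ring
  let γ : ℕ → A → A := fun n x => if hx : x ∈ I then (if hn : 1 ≤ n then (hgood x hx n hn).choose else 1) else 0
  have hγ : ∀ (n : ℕ) {x : A}, x ∈ I → (n ! : A) * γ n x = x ^ n := by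
    intro n x hx
    rcases n with _ | n
    · simp [γ, hx]
    · simp only [γ, dif_pos hx, dif_pos (show 1 ≤ n + 1 by omega)]
      exact (hgood x hx (n + 1) (by omega)).choose_spec.2
  have hmem : ∀ {n : ℕ} {x : A}, n ≠ 0 → x ∈ I → γ n x ∈ I := fun {n x} hn hx => by
    simp only [γ, dif_pos hx, dif_pos (Nat.one_le_iff_ne_zero.2 hn)]
    exact (hgood x hx n (Nat.one_le_iff_ne_zero.2 hn)).choose_spec.1
  refine ⟨{ dpow := γ
            dpow_null := fun hx => by simp [γ, hx]
            dpow_zero := fun hx => by simp [γ, hx]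
            dpow_one := fun {x} hx => by simpa using hγ 1 hx
            dpow_mem := fun hn hx => hmem hn hx
            dpow_add := fun {n x y} hx hy => ?_
            dpow_mul := fun {n a x} hx => ?_
            mul_dpow := fun {m n x} hx => ?_
            dpow_comp := fun {m n x} hn hx => ?_ }⟩
  · refine factorial_cancel (n := n) ?_
    rw [hγ n (I.add_mem hx hy), mul_sum, add_pow, Nat.sum_antidiagonal_eq_sum_range_succ_mk]
    refine sum_congr rfl fun k hk => ?_
    have hkn : k ≤ n := Nat.lt_succ_iff.1 (mem_range.1 hk)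
    rw [← Nat.choose_mul_factorial_mul_factorial hkn, ← hγ k hx, ← hγ (n - k) hy]
    push_cast
    ring
  · refine factorial_cancel (n := n) ?_
    rw [hγ n (I.mul_mem_left a hx), mul_pow, ← hγ n hx]
    ring
  · refine factorial_cancel (n := m + n) ?_
    have e : ((m + n)! : A) = ((m + n).choose m : A) * m ! * n ! := by
      have := Nat.choose_mul_factorial_mul_factorial (Nat.le_add_right m n)
      rw [Nat.add_sub_cancel_left] at this
      rw [← this]; push_cast; ring
    calc ((m + n)! : A) * (γ m x * γ n x)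
        = ((m + n).choose m : A) * ((m ! : A) * γ m x * ((n ! : A) * γ n x)) := by rw [e]; ring
      _ = ((m + n).choose m : A) * x ^ (m + n) := by rw [hγ m hx, hγ n hx, pow_add]
      _ = _ := by rw [← hγ (m + n) hx]; ring
  · refine factorial_cancel (n := m * n) ?_
    calc ((m * n)! : A) * γ m (γ n x)
        = (Nat.uniformBell m n : A) * (n ! : A) ^ m * ((m ! : A) * γ m (γ n x)) := by
          rw [← Nat.uniformBell_mul_eq m hn]; push_cast; ring
      _ = (Nat.uniformBell m n : A) * x ^ (m * n) := by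
          rw [hγ m (hmem hn hx), mul_assoc, ← mul_pow, hγ n hx, ← pow_mul, mul_comm n m]
      _ = _ := by rw [← hγ (m * n) hx]; ring

end TorsionFree

theorem exists_extension_singleton {A : Type u} {B : Type v} [CommRing A] [CommRing B] [Algebra A B]
    (x : A) (γ : DividedPowers (Ideal.span {x})) :
    ∃ δ : DividedPowers ((Ideal.span {x}).map (algebraMap A B)), γ.IsDPMorphism δ (algebraMap A B) := by
  classical
  set f := algebraMap A B
  have hJ : (Ideal.span {x}).map f = Ideal.span {f x} := by rw [Ideal.map_span, Set.image_singleton]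
  have hx : x ∈ Ideal.span {x} := Ideal.mem_span_singleton_self x
  have hbb : ∀ (n : ℕ) (b b' : B), b * f x = b' * f x → b ^ n * f (γ.dpow n x) = b' ^ n * f (γ.dpow n x) := by
    intro n b b' e
    rcases n with _ | n
    · simp
    · obtain ⟨c, hc⟩ := Ideal.mem_span_singleton'.1 (γ.dpow_mem n.succ_ne_zero hx)
      rw [← hc, map_mul, ← sub_eq_zero, ← sub_mul]
      obtain ⟨d, hd⟩ := sub_dvd_pow_sub_pow b b' (n + 1)
      rw [hd, show (b - b') * d * (f c * f x) = d * f c * ((b - b') * f x) by ring, sub_mul, e, sub_self, mul_zero]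
  have hmem : ∀ {y : B}, y ∈ (Ideal.span {x}).map f → ∃ b, b * f x = y := fun hy =>
    Ideal.mem_span_singleton'.1 (hJ ▸ hy)
  let δ : ℕ → B → B := fun n y => if h : ∃ b, b * f x = y then h.choose ^ n * f (γ.dpow n x) else 0
  have hδ : ∀ (n : ℕ) (b : B), δ n (b * f x) = b ^ n * f (γ.dpow n x) := fun n b => by
    have h : ∃ b', b' * f x = b * f x := ⟨b, rfl⟩
    simp only [δ, dif_pos h]
    exact hbb n _ _ h.choose_spec
  refine ⟨{ dpow := δ
            dpow_null := fun {n y} hy => dif_neg fun h => hy (hJ ▸ Ideal.mem_span_singleton'.2 h)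
            dpow_zero := fun hy => ?_
            dpow_one := fun hy => ?_
            dpow_mem := fun {n y} hn hy => ?_
            dpow_add := fun {n y z} hy hz => ?_
            dpow_mul := fun {n a y} hy => ?_
            mul_dpow := fun {m n y} hy => ?_
            dpow_comp := fun {m n y} hn hy => ?_ }, le_rfl, fun {n} a ha => ?_⟩
  · obtain ⟨b, rfl⟩ := hmem hy
    rw [hδ, γ.dpow_zero hx]; simp
  · obtain ⟨b, rfl⟩ := hmem hy
    rw [hδ, γ.dpow_one hx]; simp
  · obtain ⟨b, rfl⟩ := hmem hy
    rw [hδ]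
    exact Ideal.mul_mem_left _ _ (Ideal.mem_map_of_mem f (γ.dpow_mem hn hx))
  · obtain ⟨b, rfl⟩ := hmem hy
    obtain ⟨c, rfl⟩ := hmem hz
    rw [← add_mul, hδ, Nat.sum_antidiagonal_eq_sum_range_succ_mk, add_pow, sum_mul]
    refine sum_congr rfl fun k hk => ?_
    have hkn : k ≤ n := Nat.lt_succ_iff.1 (mem_range.1 hk)
    have e := congrArg f (γ.mul_dpow (m := k) (n := n - k) hx)
    rw [Nat.add_sub_cancel' hkn, map_mul, map_mul, map_natCast] at e
    rw [hδ, hδ]
    linear_combination (-(b ^ k * c ^ (n - k))) * e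
  · obtain ⟨b, rfl⟩ := hmem hy
    rw [← mul_assoc, hδ, hδ]; ring
  · obtain ⟨b, rfl⟩ := hmem hy
    have e := congrArg f (γ.mul_dpow (m := m) (n := n) hx)
    rw [map_mul, map_mul, map_natCast] at e
    rw [hδ, hδ, hδ, pow_add]
    linear_combination (b ^ m * b ^ n) * e
  · obtain ⟨b, rfl⟩ := hmem hy
    obtain ⟨c, hc⟩ := Ideal.mem_span_singleton'.1 (γ.dpow_mem hn hx)
    have e := congrArg f (γ.dpow_comp (m := m) hn hx)
    rw [← hc, γ.dpow_mul hx, map_mul, map_mul, map_natCast, map_pow] at e
    rw [hδ, hδ, ← hc, map_mul, ← mul_assoc, hδ, mul_pow, ← pow_mul, mul_comm n m, mul_assoc, e]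
    ring
  · obtain ⟨r, rfl⟩ := Ideal.mem_span_singleton'.1 ha
    show δ n (f (r * x)) = f (γ.dpow n (r * x))
    rw [map_mul, hδ, γ.dpow_mul hx, map_mul, map_pow]

end Groth.Agent.DPowLib
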