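import Mathlib.RingTheory.DividedPowers.Basic
import Mathlib.Algebra.MonoidAlgebra.Module
import Mathlib.Algebra.Algebra.Rat
import Mathlib.Algebra.MonoidAlgebra.Basic
import Mathlib.Data.Rat.Cast.CharZero
import Mathlib.RingTheory.Ideal.Operations
import Mathlib.Tactic

/-!
Divided powers from axioms on generators, and gluing on a sum of two ideals.
-/

namespace Groth.Agent.DPowLib

open Nat Finset

universe u

section Gens

variable {A : Type u} [CommRing A] {I : Ideal A} (d : ℕ → A → A)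

/-- The pair (value in `A`, universal value). -/
noncomputable def evalPair (x y : A) : ((ℕ × ℕ) →₀ ℤ) →+ A × AddMonoidAlgebra ℚ (ℕ × ℕ) :=
  Finsupp.liftAddHom fun ij => zmultiplesHom _
    (d ij.1 x * d ij.2 y, AddMonoidAlgebra.single ij ((ij.1 ! : ℚ)⁻¹ * (ij.2 ! : ℚ)⁻¹))

theorem evalPair_single (x y : A) (ij : ℕ × ℕ) (c : ℤ) :
    evalPair d x y (Finsupp.single ij c)
      = c • (d ij.1 x * d ij.2 y, AddMonoidAlgebra.single ij ((ij.1 ! : ℚ)⁻¹ * (ij.2 ! : ℚ)⁻¹)) := by
  rw [evalPair, Finsupp.liftAddHom_apply_single, zmultiplesHom_apply]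

theorem evalPair_snd_coeff (x y : A) (c : (ℕ × ℕ) →₀ ℤ) (ij : ℕ × ℕ) :
    (evalPair d x y c).2.coeff ij = (c ij : ℚ) * ((ij.1 ! : ℚ)⁻¹ * (ij.2 ! : ℚ)⁻¹) := by
  classical
  induction c using Finsupp.induction_linear with
  | zero => simp
  | add a b ha hb =>
    rw [map_add, Prod.snd_add, AddMonoidAlgebra.coeff_add, Finsupp.add_apply, ha, hb, Finsupp.add_apply]
    push_cast; ring
  | single k c =>
    rw [evalPair_single, Prod.smul_snd, AddMonoidAlgebra.coeff_smul, Finsupp.smul_apply, AddMonoidAlgebra.coeff_single,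
      Finsupp.single_apply, Finsupp.single_apply]
    split_ifs with h
    · subst h; simp
    · simp

theorem eq_of_mem_range (x y : A) {a b : A} {w : AddMonoidAlgebra ℚ (ℕ × ℕ)}
    (ha : (a, w) ∈ (evalPair d x y).range) (hb : (b, w) ∈ (evalPair d x y).range) : a = b := by
  obtain ⟨c, hc⟩ := ha
  obtain ⟨c', hc'⟩ := hb
  have : c = c' := Finsupp.ext fun ij => by
    have h1 := evalPair_snd_coeff d x y c ij
    have h2 := evalPair_snd_coeff d x y c' ij
    rw [hc] at h1
    rw [hc'] at h2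
    have h3 := h1.symm.trans h2
    have hne : ((ij.1 ! : ℚ)⁻¹ * (ij.2 ! : ℚ)⁻¹) ≠ 0 := by positivity
    exact_mod_cast mul_right_cancel₀ hne h3
  exact congrArg Prod.fst (hc.symm.trans (this ▸ hc'))

variable (h_zero : ∀ x ∈ I, d 0 x = 1) (h_one : ∀ x ∈ I, d 1 x = x)
  (h_mem : ∀ (n : ℕ) (x : A), n ≠ 0 → x ∈ I → d n x ∈ I)
  (h_add : ∀ (n : ℕ) (x y : A), x ∈ I → y ∈ I →
    d n (x + y) = (antidiagonal n).sum fun k => d k.1 x * d k.2 y)
  (h_mul : ∀ (n : ℕ) (a x : A), x ∈ I → d n (a * x) = a ^ n * d n x)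

/-- The axioms still to check at an element. -/
def Good (I : Ideal A) (d : ℕ → A → A) (x : A) : Prop := x ∈ I ∧
  (∀ m n : ℕ, d m x * d n x = (m + n).choose m * d (m + n) x) ∧
  (∀ m n : ℕ, n ≠ 0 → d m (d n x) = Nat.uniformBell m n * d (m * n) x)

theorem mul_mem_range {x y : A} (hx : Good I d x) (hy : Good I d y) {u v : A × AddMonoidAlgebra ℚ (ℕ × ℕ)}
    (hu : u ∈ (evalPair d x y).range) (hv : v ∈ (evalPair d x y).range) : u * v ∈ (evalPair d x y).range := by
  obtain ⟨a, rfl⟩ := hu
  obtain ⟨b, rfl⟩ := hv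
  induction a using Finsupp.induction_linear with
  | zero => rw [map_zero, zero_mul]; exact zero_mem _
  | add a a' ha ha' => rw [map_add, add_mul]; exact add_mem ha ha'
  | single ij c =>
    induction b using Finsupp.induction_linear with
    | zero => rw [map_zero, mul_zero]; exact zero_mem _
    | add a a' ha ha' => rw [map_add, mul_add]; exact add_mem ha ha'
    | single kl e =>
      refine ⟨Finsupp.single (ij + kl) (c * e * ((ij.1 + kl.1).choose ij.1 * (ij.2 + kl.2).choose ij.2 : ℕ)), ?_⟩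
      rw [evalPair_single, evalPair_single, evalPair_single]
      ext1
      · simp only [Prod.smul_fst, Prod.fst_mul, Prod.fst_add, Prod.snd_add, zsmul_eq_mul, Prod.fst_intCast]
        have h1 := hx.2.1 ij.1 kl.1
        have h2 := hy.2.1 ij.2 kl.2
        push_cast
        calc _ = (c : A) * e * (((ij.1 + kl.1).choose ij.1 : A) * d (ij.1 + kl.1) x)
                * (((ij.2 + kl.2).choose ij.2 : A) * d (ij.2 + kl.2) y) := by ring
          _ = (c : A) * e * (d ij.1 x * d kl.1 x) * (d ij.2 y * d kl.2 y) := by rw [h1, h2]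
          _ = _ := by ring
      · simp only [Prod.smul_snd, Prod.snd_mul, AddMonoidAlgebra.smul_single, AddMonoidAlgebra.single_mul_single]
        congr 1
        simp only [Prod.fst_add, Prod.snd_add, zsmul_eq_mul]
        have hc : ∀ i k : ℕ, ((i + k).choose i : ℚ) * ((i + k)! : ℚ)⁻¹ = (i ! : ℚ)⁻¹ * (k ! : ℚ)⁻¹ := fun i k => by
          rw [← Nat.choose_mul_factorial_mul_factorial (Nat.le_add_right i k), Nat.add_sub_cancel_left]
          push_cast
          have : ((i + k).choose i : ℚ) ≠ 0 := by exact_mod_cast (Nat.choose_pos (Nat.le_add_right i k)).ne'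
          field_simp
        push_cast
        calc _ = (c : ℚ) * e * (((ij.1 + kl.1).choose ij.1 : ℚ) * ((ij.1 + kl.1)! : ℚ)⁻¹)
                * (((ij.2 + kl.2).choose ij.2 : ℚ) * ((ij.2 + kl.2)! : ℚ)⁻¹) := by ring
          _ = _ := by rw [hc, hc]; ring

include h_zero h_one h_mem h_add h_mul in
theorem good_add {x y : A} (hx : Good I d x) (hy : Good I d y) : Good I d (x + y) := by
  classical
  set R := (evalPair d x y).range
  let e : ℕ → ℕ → AddMonoidAlgebra ℚ (ℕ × ℕ) := fun i j =>
    AddMonoidAlgebra.single (i, j) ((i ! : ℚ)⁻¹ * (j ! : ℚ)⁻¹)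
  have hR1 : ∀ i j, (d i x * d j y, e i j) ∈ R := fun i j =>
    ⟨Finsupp.single (i, j) 1, by rw [evalPair_single, one_smul]⟩
  let T : AddMonoidAlgebra ℚ (ℕ × ℕ) := AddMonoidAlgebra.single (1, 0) 1 + AddMonoidAlgebra.single (0, 1) 1
  let t : ℕ → AddMonoidAlgebra ℚ (ℕ × ℕ) := fun n => (n ! : ℚ)⁻¹ • T ^ n
  have ht : ∀ n, t n = ∑ k ∈ antidiagonal n, e k.1 k.2 := by
    intro n
    simp only [t, T]
    rw [(Commute.all _ _).add_pow', Finset.smul_sum]
    refine Finset.sum_congr rfl fun k hk => ?_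
    rw [AddMonoidAlgebra.single_pow, AddMonoidAlgebra.single_pow, AddMonoidAlgebra.single_mul_single,
      AddMonoidAlgebra.smul_single, AddMonoidAlgebra.smul_single]
    simp only [Prod.smul_mk, smul_eq_mul, mul_one, mul_zero, Prod.mk_add_mk, add_zero, zero_add, one_pow,
      nsmul_eq_mul, e]
    congr 1
    · rw [HasAntidiagonal.mem_antidiagonal] at hk
      rw [← hk, ← Nat.choose_mul_factorial_mul_factorial (Nat.le_add_right k.1 k.2), Nat.add_sub_cancel_left]
      push_cast
      have : ((k.1 + k.2).choose k.1 : ℚ) ≠ 0 := by exact_mod_cast (Nat.choose_pos (Nat.le_add_right k.1 k.2)).ne'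
      field_simp
  have hsum : ∀ n, (d n (x + y), t n) ∈ R := fun n => by
    rw [h_add n x y hx.1 hy.1, ht,
      show ((∑ k ∈ antidiagonal n, d k.1 x * d k.2 y, ∑ k ∈ antidiagonal n, e k.1 k.2) : A × AddMonoidAlgebra ℚ (ℕ × ℕ))
        = ∑ k ∈ antidiagonal n, (d k.1 x * d k.2 y, e k.1 k.2) from Prod.ext (by simp [Prod.fst_sum]) (by simp [Prod.snd_sum])]
    exact AddSubgroup.sum_mem _ fun k _ => hR1 _ _
  refine ⟨I.add_mem hx.1 hy.1, fun m n => ?_, fun m n hn => ?_⟩
  · refine eq_of_mem_range d x y (w := t m * t n) ?_ ?_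
    · exact mul_mem_range d hx hy (hsum m) (hsum n)
    · have h := AddSubgroup.nsmul_mem _ (hsum (m + n)) ((m + n).choose m)
      rw [Prod.smul_mk, nsmul_eq_mul] at h
      convert h using 1
      symm
      refine Prod.ext rfl ?_
      simp only [t, smul_mul_smul_comm, ← pow_add, ← Nat.cast_smul_eq_nsmul ℚ, smul_smul]
      congr 1
      rw [← Nat.choose_mul_factorial_mul_factorial (Nat.le_add_right m n), Nat.add_sub_cancel_left]
      push_cast
      have : ((m + n).choose m : ℚ) ≠ 0 := by exact_mod_cast (Nat.choose_pos (Nat.le_add_right m n)).ne'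
      field_simp
  · let G : A → AddMonoidAlgebra ℚ (ℕ × ℕ) → Prop := fun a w =>
      a ∈ I ∧ ∀ m : ℕ, (d m a, (m ! : ℚ)⁻¹ • w ^ m) ∈ R
    have hG0 : G 0 0 := by
      refine ⟨I.zero_mem, fun m => ?_⟩
      rcases m with _ | m
      · rw [h_zero 0 I.zero_mem]
        have := hR1 0 0
        simpa [e, h_zero x hx.1, h_zero y hy.1, AddMonoidAlgebra.one_def, ← Prod.mk_zero_zero] using this
      · have h := h_mul (m + 1) 0 0 I.zero_mem
        rw [zero_mul, zero_pow m.succ_ne_zero, zero_mul] at h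
        rw [h, zero_pow m.succ_ne_zero, smul_zero]
        exact zero_mem R
    have hGadd : ∀ {a b w v}, G a w → G b v → G (a + b) (w + v) := by
      rintro a b w v ⟨ha, ha'⟩ ⟨hb, hb'⟩
      refine ⟨I.add_mem ha hb, fun m => ?_⟩
      have h : (d m (a + b), (m ! : ℚ)⁻¹ • (w + v) ^ m)
          = ∑ k ∈ antidiagonal m, (d k.1 a, (k.1 ! : ℚ)⁻¹ • w ^ k.1) * (d k.2 b, (k.2 ! : ℚ)⁻¹ • v ^ k.2) := by
        refine Prod.ext ?_ ?_
        · rw [Prod.fst_sum]
          exact h_add m a b ha hb
        · rw [Prod.snd_sum]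
          show (m ! : ℚ)⁻¹ • (w + v) ^ m = _
          rw [(Commute.all _ _).add_pow', Finset.smul_sum]
          refine Finset.sum_congr rfl fun k hk => ?_
          rw [HasAntidiagonal.mem_antidiagonal] at hk
          show _ = (k.1 ! : ℚ)⁻¹ • w ^ k.1 * (k.2 ! : ℚ)⁻¹ • v ^ k.2
          rw [smul_mul_smul_comm, ← Nat.cast_smul_eq_nsmul ℚ, smul_smul]
          congr 1
          rw [← hk, ← Nat.choose_mul_factorial_mul_factorial (Nat.le_add_right k.1 k.2), Nat.add_sub_cancel_left]
          push_cast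
          have : ((k.1 + k.2).choose k.1 : ℚ) ≠ 0 := by
            exact_mod_cast (Nat.choose_pos (Nat.le_add_right k.1 k.2)).ne'
          field_simp
      rw [h]
      exact AddSubgroup.sum_mem _ fun k _ => mul_mem_range d hx hy (ha' _) (hb' _)
    have hpow : ∀ {u : A × AddMonoidAlgebra ℚ (ℕ × ℕ)}, u ∈ R → ∀ m, u ^ m ∈ R := by
      intro u hu m
      induction m with
      | zero =>
        rw [pow_zero]
        have := hR1 0 0
        simp only [h_zero x hx.1, h_zero y hy.1, e, Nat.factorial_zero, Nat.cast_one, inv_one, mul_one] at this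
        exact this
      | succ m ih => rw [pow_succ]; exact mul_mem_range d hx hy ih hu
    have hcomp : ∀ m i : ℕ, i ≠ 0 → (m ! : ℚ)⁻¹ * ((i ! : ℚ)⁻¹) ^ m = (Nat.uniformBell m i : ℚ) * ((m * i)! : ℚ)⁻¹ := by
      intro m i hi
      have h := Nat.uniformBell_mul_eq m hi
      have hb : (Nat.uniformBell m i : ℚ) ≠ 0 := by
        have : Nat.uniformBell m i ≠ 0 := fun h0 => by rw [h0] at h; simp at h; exact (Nat.factorial_ne_zero _) h.symm
        exact_mod_cast this
      rw [← h]
      push_cast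
      rw [inv_pow]
      field_simp
    have hbasic : ∀ i j, i + j = n → G (d i x * d j y) (e i j) := by
      intro i j hij
      rcases i with _ | i
      · have hj : j ≠ 0 := by omega
        refine ⟨I.mul_mem_left _ (h_mem j y hj hy.1), fun m => ?_⟩
        have h := AddSubgroup.nsmul_mem _ (hR1 0 (m * j)) (Nat.uniformBell m j)
        rw [Prod.smul_mk, nsmul_eq_mul] at h
        convert h using 1
        symm
        refine Prod.ext ?_ ?_
        · show _ = d m (d 0 x * d j y)
          rw [h_mul m _ _ (h_mem j y hj hy.1), h_zero x hx.1, one_pow, one_mul, one_mul, hy.2.2 m j hj]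
        · simp only [e, AddMonoidAlgebra.single_pow, AddMonoidAlgebra.smul_single, Prod.smul_mk, smul_eq_mul, mul_zero,
            Nat.factorial_zero, Nat.cast_one, inv_one, one_mul, nsmul_eq_mul]
          rw [hcomp m j hj]
      · have hi : i + 1 ≠ 0 := by omega
        refine ⟨I.mul_mem_right _ (h_mem _ x hi hx.1), fun m => ?_⟩
        have h := mul_mem_range d hx hy
          (AddSubgroup.nsmul_mem _ (hR1 (m * (i + 1)) 0) (Nat.uniformBell m (i + 1))) (hpow (hR1 0 j) m)
        convert h using 1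
        symm
        refine Prod.ext ?_ ?_
        · simp only [Prod.fst_mul, Prod.smul_fst, nsmul_eq_mul, Prod.pow_fst, Prod.fst_natCast]
          rw [mul_comm (d (i + 1) x), h_mul m _ _ (h_mem _ x hi hx.1), hx.2.2 m _ hi, h_zero y hy.1, h_zero x hx.1]
          ring
        · simp only [Prod.snd_mul, Prod.smul_snd, Prod.pow_snd, e, AddMonoidAlgebra.single_pow,
            AddMonoidAlgebra.smul_single, AddMonoidAlgebra.single_mul_single, Prod.smul_mk, Prod.mk_add_mk, smul_eq_mul,
            mul_zero, zero_add, add_zero, Nat.factorial_zero, Nat.cast_one, inv_one, mul_one, one_mul, nsmul_eq_mul, mul_pow]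
          rw [← hcomp m (i + 1) hi]
          congr 1
          ring
    have hGn : G (d n (x + y)) (t n) := by
      rw [h_add n x y hx.1 hy.1, ht]
      have : ∀ s : Finset (ℕ × ℕ), (∀ k ∈ s, k.1 + k.2 = n) →
          G (∑ k ∈ s, d k.1 x * d k.2 y) (∑ k ∈ s, e k.1 k.2) := by
        intro s
        induction s using Finset.induction_on with
        | empty => intro _; simpa using hG0
        | insert k s hk ih =>
          intro h
          rw [Finset.sum_insert hk, Finset.sum_insert hk]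
          exact hGadd (hbasic _ _ (h k (Finset.mem_insert_self _ _))) (ih fun l hl => h l (Finset.mem_insert_of_mem hl))
      exact this _ fun k hk => HasAntidiagonal.mem_antidiagonal.1 hk
    refine eq_of_mem_range d x y (hGn.2 m) ?_
    have h := AddSubgroup.nsmul_mem _ (hsum (m * n)) (Nat.uniformBell m n)
    rw [Prod.smul_mk, nsmul_eq_mul] at h
    convert h using 1
    symm
    refine Prod.ext rfl ?_
    simp only [t, ← Nat.cast_smul_eq_nsmul ℚ, smul_smul, smul_pow, ← pow_mul]
    rw [hcomp m n hn, mul_comm n m]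

include h_mem h_mul in
theorem good_smul {a x : A} (hx : Good I d x) : Good I d (a * x) := by
  refine ⟨I.mul_mem_left _ hx.1, fun m n => ?_, fun m n hn => ?_⟩
  · rw [h_mul _ _ _ hx.1, h_mul _ _ _ hx.1, h_mul _ _ _ hx.1, pow_add]
    linear_combination (a ^ m * a ^ n) * hx.2.1 m n
  · rw [h_mul _ _ _ hx.1, h_mul _ _ _ (h_mem n x hn hx.1), h_mul _ _ _ hx.1, hx.2.2 m n hn, ← pow_mul, mul_comm n m]
    ring

include h_zero h_one h_mem h_add h_mul in
theorem exists_dividedPowers_of_generators (S : Set A) (hS : Ideal.span S = I)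
    (h_null : ∀ (n : ℕ) (x : A), x ∉ I → d n x = 0)
    (h_mul_dpow : ∀ (m n : ℕ) (x : A), x ∈ S → d m x * d n x = (m + n).choose m * d (m + n) x)
    (h_comp : ∀ (m n : ℕ) (x : A), n ≠ 0 → x ∈ S → d m (d n x) = Nat.uniformBell m n * d (m * n) x) :
    ∃ γ : DividedPowers I, γ.dpow = d := by
  have h0 : Good I d 0 := by
    have hz : ∀ n, n ≠ 0 → d n 0 = 0 := fun n hn => by
      have h := h_mul n 0 0 I.zero_mem
      rwa [zero_mul, zero_pow hn, zero_mul] at h
    refine ⟨I.zero_mem, fun m n => ?_, fun m n hn => ?_⟩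
    · rcases m with _ | m
      · rw [h_zero 0 I.zero_mem, one_mul, zero_add, Nat.choose_zero_right, Nat.cast_one, one_mul]
      · rw [hz _ m.succ_ne_zero, hz (m + 1 + n) (by omega)]; simp
    · rw [hz n hn]
      rcases m with _ | m
      · rw [zero_mul, Nat.uniformBell_zero_left]; simp
      · rw [hz _ m.succ_ne_zero, hz _ (mul_ne_zero m.succ_ne_zero hn), mul_zero]
  have hall : ∀ x ∈ I, Good I d x := by
    intro x hx
    rw [← hS] at hx
    induction hx using Submodule.span_induction with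
    | mem x hx => exact ⟨hS ▸ Ideal.subset_span hx, fun m n => h_mul_dpow m n x hx, fun m n hn => h_comp m n x hn hx⟩
    | zero => exact h0
    | add x y _ _ hx hy => exact good_add d h_zero h_one h_mem h_add h_mul hx hy
    | smul a x _ hx => exact good_smul d h_mem h_mul hx
  exact ⟨{ dpow := d
           dpow_null := fun h => h_null _ _ h
           dpow_zero := fun h => h_zero _ h
           dpow_one := fun h => h_one _ h
           dpow_mem := fun hn h => h_mem _ _ hn h
           dpow_add := fun hx hy => h_add _ _ _ hx hy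
           dpow_mul := fun hx => h_mul _ _ _ hx
           mul_dpow := fun hx => (hall _ hx).2.1 _ _
           dpow_comp := fun hn hx => (hall _ hx).2.2 _ _ hn }, rfl⟩

end Gens

theorem existsUnique_sup {A : Type u} [CommRing A] {I J : Ideal A} (γ : DividedPowers I) (δ : DividedPowers J)
    (h : ∀ (n : ℕ) (x : A), x ∈ I ⊓ J → γ.dpow n x = δ.dpow n x) :
    ∃! ε : DividedPowers (I ⊔ J),
      (∀ (n : ℕ) (x : A), x ∈ I → ε.dpow n x = γ.dpow n x) ∧
        (∀ (n : ℕ) (x : A), x ∈ J → ε.dpow n x = δ.dpow n x) := by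
  classical
  have hE : ∀ z ∈ I ⊔ J, ∃ E : PowerSeries A, ∀ x ∈ I, ∀ y ∈ J, x + y = z → γ.exp x * δ.exp y = E := by
    intro z hz
    obtain ⟨x, hx, y, hy, rfl⟩ := Submodule.mem_sup.1 hz
    refine ⟨γ.exp x * δ.exp y, fun x' hx' y' hy' e => ?_⟩
    have h1 : x' = x + (x' - x) := by ring
    have hy1 : y = y' + (y - y') := by ring
    have hm : x' - x ∈ I ⊓ J := ⟨I.sub_mem hx' hx, by rw [show x' - x = y - y' by linear_combination e]; exact J.sub_mem hy hy'⟩
    have hexp : γ.exp (x' - x) = δ.exp (y - y') := by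
      rw [show y - y' = x' - x by linear_combination (-1 : A) * e]
      ext n
      simp only [DividedPowers.exp, PowerSeries.coeff_mk]
      exact h n _ hm
    rw [h1, γ.exp_add hx hm.1, hexp]
    conv_rhs => rw [hy1, δ.exp_add hy' (J.sub_mem hy hy')]
    ring
  let d : ℕ → A → A := fun n z => if hz : z ∈ I ⊔ J then PowerSeries.coeff n (hE z hz).choose else 0
  have hd : ∀ n x y, x ∈ I → y ∈ J → d n (x + y) = PowerSeries.coeff n (γ.exp x * δ.exp y) := fun n x y hx hy => by
    have hz : x + y ∈ I ⊔ J := Submodule.add_mem_sup hx hy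
    simp only [d, dif_pos hz]
    rw [(hE _ hz).choose_spec x hx y hy rfl]
  have h10 : ∀ {K : Ideal A} (ρ : DividedPowers K), ρ.exp 0 = 1 := fun ρ => by
    ext n
    simp only [DividedPowers.exp, PowerSeries.coeff_mk, PowerSeries.coeff_one]
    split_ifs with hn
    · subst hn; exact ρ.dpow_zero (Ideal.zero_mem _)
    · exact ρ.dpow_eval_zero hn
  have hdI : ∀ n x, x ∈ I → d n x = γ.dpow n x := fun n x hx => by
    have := hd n x 0 hx J.zero_mem
    rw [add_zero, h10, mul_one] at this
    simpa [DividedPowers.exp] using this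
  have hdJ : ∀ n x, x ∈ J → d n x = δ.dpow n x := fun n x hx => by
    have := hd n 0 x I.zero_mem hx
    rw [zero_add, h10, one_mul] at this
    simpa [DividedPowers.exp] using this
  have hform : ∀ n x y, x ∈ I → y ∈ J → d n (x + y) = ∑ k ∈ antidiagonal n, γ.dpow k.1 x * δ.dpow k.2 y := fun n x y hx hy => by
    rw [hd n x y hx hy, PowerSeries.coeff_mul]
    simp [DividedPowers.exp]
  obtain ⟨ε, hε⟩ := exists_dividedPowers_of_generators (I := I ⊔ J) d
    (fun z hz => by
      obtain ⟨x, hx, y, hy, rfl⟩ := Submodule.mem_sup.1 hz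
      rw [hform 0 x y hx hy, Finset.Nat.antidiagonal_zero, Finset.sum_singleton, γ.dpow_zero hx, δ.dpow_zero hy, one_mul])
    (fun z hz => by
      obtain ⟨x, hx, y, hy, rfl⟩ := Submodule.mem_sup.1 hz
      rw [hform 1 x y hx hy, Finset.Nat.sum_antidiagonal_eq_sum_range_succ_mk, Finset.sum_range_succ, Finset.sum_range_one]
      simp [γ.dpow_zero hx, γ.dpow_one hx, δ.dpow_zero hy, δ.dpow_one hy, add_comm])
    (fun n z hn hz => by
      obtain ⟨x, hx, y, hy, rfl⟩ := Submodule.mem_sup.1 hz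
      rw [hform n x y hx hy]
      refine Submodule.sum_mem _ fun k hk => ?_
      rw [HasAntidiagonal.mem_antidiagonal] at hk
      by_cases hk1 : k.1 = 0
      · exact Ideal.mul_mem_left _ _ (Ideal.mem_sup_right (δ.dpow_mem (by omega) hy))
      · exact Ideal.mul_mem_right _ _ (Ideal.mem_sup_left (γ.dpow_mem hk1 hx)))
    (fun n z z' hz hz' => by
      obtain ⟨x, hx, y, hy, rfl⟩ := Submodule.mem_sup.1 hz
      obtain ⟨x', hx', y', hy', rfl⟩ := Submodule.mem_sup.1 hz'
      rw [show x + y + (x' + y') = (x + x') + (y + y') by ring, hd n _ _ (I.add_mem hx hx') (J.add_mem hy hy'),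
        γ.exp_add hx hx', δ.exp_add hy hy',
        show γ.exp x * γ.exp x' * (δ.exp y * δ.exp y') = (γ.exp x * δ.exp y) * (γ.exp x' * δ.exp y') by ring,
        PowerSeries.coeff_mul]
      exact Finset.sum_congr rfl fun k _ => by rw [hd _ x y hx hy, hd _ x' y' hx' hy'])
    (fun n a z hz => by
      obtain ⟨x, hx, y, hy, rfl⟩ := Submodule.mem_sup.1 hz
      rw [mul_add, hform n _ _ (I.mul_mem_left a hx) (J.mul_mem_left a hy), hform n x y hx hy, Finset.mul_sum]
      refine Finset.sum_congr rfl fun k hk => ?_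
      rw [HasAntidiagonal.mem_antidiagonal] at hk
      rw [γ.dpow_mul hx, δ.dpow_mul hy, ← hk, pow_add]
      ring)
    ((I : Set A) ∪ J) (by rw [Ideal.span_union, Ideal.span_eq, Ideal.span_eq])
    (fun n z hz => dif_neg hz)
    (fun m n x hx => by
      rcases hx with hx | hx
      · rw [hdI _ _ hx, hdI _ _ hx, hdI _ _ hx]; exact γ.mul_dpow hx
      · rw [hdJ _ _ hx, hdJ _ _ hx, hdJ _ _ hx]; exact δ.mul_dpow hx)
    (fun m n x hn hx => by
      rcases hx with hx | hx
      · rw [hdI _ _ hx, hdI _ _ (γ.dpow_mem hn hx), hdI _ _ hx]; exact γ.dpow_comp hn hx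
      · rw [hdJ _ _ hx, hdJ _ _ (δ.dpow_mem hn hx), hdJ _ _ hx]; exact δ.dpow_comp hn hx)
  refine ⟨ε, ⟨fun n x hx => hε ▸ hdI n x hx, fun n x hx => hε ▸ hdJ n x hx⟩, fun ε' hε' => ?_⟩
  refine DividedPowers.ext ε' ε fun n z hz => ?_
  obtain ⟨x, hx, y, hy, rfl⟩ := Submodule.mem_sup.1 hz
  rw [hε, hform n x y hx hy, ε'.dpow_add (Ideal.mem_sup_left hx) (Ideal.mem_sup_right hy)]
  exact Finset.sum_congr rfl fun k _ => by rw [hε'.1 _ _ hx, hε'.2 _ _ hy]

theorem add_pow_prime_pow {B : Type u} [CommRing B] {I : Ideal B} (hI : DividedPowers I) (q : ℕ) (b δ : B) (hδ : δ ∈ I) :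
    (b + δ) ^ q - b ^ q ∈ Ideal.span {(q : B)} * I := by
  rw [add_comm b δ, add_pow, Finset.sum_range_succ', Nat.choose_zero_right, pow_zero, Nat.sub_zero, one_mul,
    Nat.cast_one, mul_one, add_sub_cancel_right]
  refine Submodule.sum_mem _ fun k _ => ?_
  obtain ⟨c, hc⟩ : q ∣ q.descFactorial (k + 1) := by
    rcases q with _ | q
    · simp
    · rw [Nat.succ_descFactorial_succ]; exact dvd_mul_right _ _
  rw [← hI.factorial_mul_dpow_eq_pow hδ]
  have e : ((k + 1)! : B) * hI.dpow (k + 1) δ * b ^ (q - (k + 1)) * (q.choose (k + 1) : B)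
      = (q : B) * ((c : B) * hI.dpow (k + 1) δ * b ^ (q - (k + 1))) := by
    have : (((k + 1)! * q.choose (k + 1) : ℕ) : B) = ((q * c : ℕ) : B) := by
      rw [← Nat.descFactorial_eq_factorial_mul_choose, hc]
    push_cast at this
    linear_combination (hI.dpow (k + 1) δ * b ^ (q - (k + 1))) * this
  rw [e]
  exact Ideal.mul_mem_mul (Ideal.mem_span_singleton_self _)
    (I.mul_mem_right _ (I.mul_mem_left _ (hI.dpow_mem k.succ_ne_zero hδ)))

end Groth.Agent.DPowLib
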